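import Groth.Agent.Lib.InvExt.Gen
import Mathlib

/-!
Units of a split torus over an integral scheme.
-/

set_option linter.style.header false
set_option linter.style.haveILetI false

universe u

open CategoryTheory Limits AlgebraicGeometry Opposite TopologicalSpace
open AddMonoidAlgebra (single coeff)

namespace GrothLib.TorusUnits

/-- Units of a group algebra over a domain with unique sums are monomials. -/
theorem exists_single_of_isUnit {R G : Type*} [CommRing R] [IsDomain R] [AddCommGroup G] [TwoUniqueSums G]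
    {f : AddMonoidAlgebra R G} (hf : IsUnit f) : ∃ (a : G) (r : R), IsUnit r ∧ f = single a r := by
  classical
  obtain ⟨g, hfg⟩ := isUnit_iff_exists_inv.mp hf
  have hA : f.coeff.support.Nonempty := by
    rw [Finsupp.support_nonempty_iff]
    intro h
    rw [show f = 0 from AddMonoidAlgebra.coeff_injective h, zero_mul] at hfg
    exact zero_ne_one hfg
  have hB : g.coeff.support.Nonempty := by
    rw [Finsupp.support_nonempty_iff]
    intro h
    rw [show g = 0 from AddMonoidAlgebra.coeff_injective h, mul_zero] at hfg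
    exact zero_ne_one hfg
  have hzero : ∀ a ∈ f.coeff.support, ∀ b ∈ g.coeff.support,
      UniqueAdd f.coeff.support g.coeff.support a b → a + b = 0 := by
    intro a ha b hb h
    by_contra hne
    have := AddMonoidAlgebra.coeff_mul_add_of_uniqueAdd (R := R) h
    rw [hfg, AddMonoidAlgebra.one_def, AddMonoidAlgebra.coeff_single,
      Finsupp.single_apply, if_neg (Ne.symm hne)] at this
    exact mul_ne_zero (Finsupp.mem_support_iff.mp ha) (Finsupp.mem_support_iff.mp hb) this.symm
  have hcard : f.coeff.support.card * g.coeff.support.card = 1 := by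
    by_contra hne
    obtain ⟨p1, hp1, p2, hp2, hne', h1, h2⟩ := TwoUniqueSums.uniqueAdd_of_one_lt_card
      (A := f.coeff.support) (B := g.coeff.support)
      (lt_of_le_of_ne (Nat.mul_pos (Finset.card_pos.mpr hA) (Finset.card_pos.mpr hB)) (Ne.symm hne))
    rw [Finset.mem_product] at hp1 hp2
    obtain ⟨e1, e2⟩ := h1 hp2.1 hp2.2 ((hzero _ hp2.1 _ hp2.2 h2).trans (hzero _ hp1.1 _ hp1.2 h1).symm)
    exact hne' (Prod.ext e1.symm e2.symm)
  obtain ⟨hcA, hcB⟩ := mul_eq_one.mp hcard
  obtain ⟨a, r, -, ha⟩ := Finsupp.card_support_eq_one'.mp hcA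
  obtain ⟨b, s, -, hb⟩ := Finsupp.card_support_eq_one'.mp hcB
  have hfa : f = single a r :=
    AddMonoidAlgebra.coeff_injective (by rw [ha, AddMonoidAlgebra.coeff_single])
  have hgb : g = single b s :=
    AddMonoidAlgebra.coeff_injective (by rw [hb, AddMonoidAlgebra.coeff_single])
  refine ⟨a, r, ?_, hfa⟩
  rw [hfa, hgb, AddMonoidAlgebra.single_mul_single, AddMonoidAlgebra.one_def] at hfg
  have h := congrArg (fun p : AddMonoidAlgebra R G => p.coeff 0) hfg
  simp only [AddMonoidAlgebra.coeff_single, Finsupp.single_apply, if_true] at h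
  refine IsUnit.of_mul_eq_one s ?_
  split_ifs at h with h'
  · exact h
  · exact absurd h zero_ne_one

/-- The ring map of a morphism to an affine scheme. -/
noncomputable abbrev gl {S : Scheme.{u}} {A : CommRingCat.{u}} (h : S ⟶ Spec A) : A →+* Γ(S, ⊤) :=
  h.appTop.hom.comp (Scheme.ΓSpecIso A).inv.hom

theorem gl_injective {S : Scheme.{u}} {A : CommRingCat.{u}} {h h' : S ⟶ Spec A} (e : gl h = gl h') :
    h = h' := by
  refine ext_of_isAffine (CommRingCat.hom_ext (RingHom.ext fun a => ?_))
  have := congr($e ((Scheme.ΓSpecIso A).hom a))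
  simpa using this

theorem gl_specMap {S : Scheme.{u}} {A B : CommRingCat.{u}} (h : S ⟶ Spec A) (f : B ⟶ A) :
    gl (h ≫ Spec.map f) = (gl h).comp f.hom := by
  refine RingHom.ext fun b => ?_
  show h.appTop ((Spec.map f).appTop ((Scheme.ΓSpecIso B).inv b)) = h.appTop ((Scheme.ΓSpecIso A).inv (f b))
  congr 1
  exact congr($((Scheme.ΓSpecIso_inv_naturality f).symm) b)

theorem gl_toSpecΓ {S : Scheme.{u}} {A : CommRingCat.{u}} (φ : A ⟶ Γ(S, ⊤)) :
    gl (S.toSpecΓ ≫ Spec.map φ) = φ.hom := by
  rw [gl_specMap]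
  refine RingHom.ext fun b => ?_
  show S.toSpecΓ.appTop ((Scheme.ΓSpecIso _).inv (φ b)) = φ b
  rw [Scheme.toSpecΓ_appTop]
  exact congr($((Scheme.ΓSpecIso Γ(S, ⊤)).inv_hom_id) (φ b))

variable (n : ℕ)

/-- The coordinate ring of the split torus. -/
noncomputable abbrev TRing : CommRingCat.{u} := CommRingCat.of (ULift.{u} (AddMonoidAlgebra ℤ (Fin n → ℤ)))

/-- A monomial of the torus. -/
noncomputable abbrev mono (e : Fin n → ℤ) : TRing.{u} n := ULift.up (AddMonoidAlgebra.single e 1)

/-- Monomials as a monoid homomorphism. -/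
noncomputable def monoHom : Multiplicative (Fin n → ℤ) →* (TRing.{u} n : Type u) :=
  ((ULift.ringEquiv (R := AddMonoidAlgebra ℤ (Fin n → ℤ))).symm :
    AddMonoidAlgebra ℤ (Fin n → ℤ) →* ULift.{u} (AddMonoidAlgebra ℤ (Fin n → ℤ))).comp
      (AddMonoidAlgebra.of ℤ (Fin n → ℤ))

theorem monoHom_ofAdd (e : Fin n → ℤ) : monoHom n (Multiplicative.ofAdd e) = mono n e := rfl

theorem tring_hom_ext {S : Type u} [CommRing S] {f g : (TRing.{u} n : Type u) →+* S}
    (h : ∀ e, f (mono n e) = g (mono n e)) : f = g := by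
  have := AddMonoidAlgebra.ringHom_ext'
    (f := f.comp (ULift.ringEquiv (R := AddMonoidAlgebra ℤ (Fin n → ℤ))).symm.toRingHom)
    (g := g.comp (ULift.ringEquiv (R := AddMonoidAlgebra ℤ (Fin n → ℤ))).symm.toRingHom)
    (RingHom.ext_int _ _) (MonoidHom.ext fun e => h e.toAdd)
  exact RingHom.ext fun x => congr($this x.down)

variable {n} {X : Scheme.{u}} {R : CommRingCat.{u}} (φ : Spec R ⟶ X)

/-- The coordinate ring of the torus over an affine chart. -/
noncomputable abbrev ChartRing (R : CommRingCat.{u}) (n : ℕ) : CommRingCat.{u} :=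
  CommRingCat.of (AddMonoidAlgebra R (Fin n → ℤ))

/-- The coefficients into the chart ring. -/
noncomputable abbrev coef (R : CommRingCat.{u}) (n : ℕ) : R ⟶ ChartRing R n :=
  CommRingCat.ofHom AddMonoidAlgebra.singleZeroRingHom

/-- The torus coordinates into the chart ring. -/
noncomputable def coord (R : CommRingCat.{u}) (n : ℕ) : TRing.{u} n ⟶ ChartRing R n :=
  CommRingCat.ofHom
    ((AddMonoidAlgebra.lift ℤ (AddMonoidAlgebra R (Fin n → ℤ)) (Fin n → ℤ)
      (AddMonoidAlgebra.of R (Fin n → ℤ))).toRingHom.comp ULift.ringEquiv.toRingHom)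

theorem coord_mono (e : Fin n → ℤ) : (coord R n) (mono n e) = AddMonoidAlgebra.single e (1 : R) := by
  show AddMonoidAlgebra.lift ℤ _ _ _ (AddMonoidAlgebra.single e (1 : ℤ)) = _
  rw [AddMonoidAlgebra.lift_single, one_smul]
  rfl

variable (n) in
/-- The chart of the torus over an affine chart of the base. -/
noncomputable def chart : Spec (ChartRing R n) ⟶ X ⨯ Spec (TRing.{u} n) :=
  prod.lift (Spec.map (coef R n) ≫ φ) (Spec.map (coord R n))

theorem isPullback_chart :
    IsPullback (chart n φ) (Spec.map (coef R n))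
      (prod.fst : X ⨯ Spec (TRing.{u} n) ⟶ X) φ := by
  have w : chart n φ ≫ prod.fst = Spec.map (coef R n) ≫ φ := prod.lift_fst _ _
  refine IsPullback.of_isLimit' ⟨w⟩ (PullbackCone.IsLimit.mk _
    (fun s => s.pt.toSpecΓ ≫ Spec.map (CommRingCat.ofHom (AddMonoidAlgebra.liftNCRingHom (gl s.snd)
      ((gl (s.fst ≫ prod.snd) : (TRing.{u} n : Type u) →* Γ(s.pt, ⊤)).comp
        (monoHom n))
      (fun _ _ => Commute.all _ _)))) ?_ ?_ ?_)
  · intro s
    refine prod.hom_ext ?_ (gl_injective (tring_hom_ext n fun e => ?_))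
    · rw [Category.assoc, w, ← Category.assoc, s.condition]
      congr 1
      refine gl_injective (RingHom.ext fun r => ?_)
      rw [gl_specMap, gl_toSpecΓ]
      rw [RingHom.comp_apply]
      erw [AddMonoidAlgebra.liftNC_single]
      rw [ofAdd_zero, map_one, mul_one]
      rfl
    · rw [Category.assoc, chart, prod.lift_snd, gl_specMap, gl_toSpecΓ]
      rw [RingHom.comp_apply]
      erw [coord_mono]
      erw [AddMonoidAlgebra.liftNC_single]
      simp
      rfl
  · intro s
    refine gl_injective (RingHom.ext fun r => ?_)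
    rw [gl_specMap, gl_toSpecΓ]
    rw [RingHom.comp_apply]
    erw [AddMonoidAlgebra.liftNC_single]
    rw [ofAdd_zero, map_one, mul_one]
    rfl
  · intro s m h1 h2
    refine gl_injective ?_
    rw [gl_toSpecΓ]
    refine AddMonoidAlgebra.ringHom_ext (fun r => ?_) fun e => ?_
    · have := congr($(congrArg gl h2) r)
      rw [gl_specMap] at this
      refine this.trans ?_
      erw [AddMonoidAlgebra.liftNC_single]
      rw [ofAdd_zero, map_one, mul_one]
      rfl
    · have := congr($(congrArg gl (congrArg (· ≫ prod.snd) h1)) (mono n e))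
      simp only [Category.assoc, chart, prod.lift_snd] at this
      rw [gl_specMap, RingHom.comp_apply] at this
      erw [coord_mono] at this
      refine this.trans ?_
      erw [AddMonoidAlgebra.liftNC_single]
      simp
      rfl

/-- The formula for a unit of the torus. -/
noncomputable def formula (u : Γ(X, ⊤)) (e : Fin n → ℤ) : Γ(X ⨯ Spec (TRing.{u} n), ⊤) :=
  (prod.fst : X ⨯ Spec (TRing.{u} n) ⟶ X).appTop u *
    (prod.snd : X ⨯ Spec (TRing.{u} n) ⟶ Spec (TRing.{u} n)).appTop
      ((Scheme.ΓSpecIso (TRing.{u} n)).inv (mono n e))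

/-- A section on the torus seen in a chart. -/
noncomputable def chartVal (n : ℕ) : Γ(X ⨯ Spec (TRing.{u} n), ⊤) →+* AddMonoidAlgebra R (Fin n → ℤ) :=
  (Scheme.ΓSpecIso (ChartRing R n)).hom.hom.comp (chart n φ).appTop.hom

/-- A function on the base seen in a chart. -/
noncomputable def baseVal : Γ(X, ⊤) →+* R := (Scheme.ΓSpecIso R).hom.hom.comp φ.appTop.hom

theorem chartVal_formula (u : Γ(X, ⊤)) (e : Fin n → ℤ) :
    chartVal φ n (formula u e) = AddMonoidAlgebra.single e (baseVal φ u) := by
  rw [formula, map_mul]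
  have h1 : chartVal φ n ((prod.fst : X ⨯ Spec (TRing.{u} n) ⟶ X).appTop u) =
      coef R n (baseVal φ u) := by
    show (Scheme.ΓSpecIso _).hom ((chart n φ).appTop ((prod.fst : X ⨯ Spec (TRing.{u} n) ⟶ X).appTop u)) = _
    rw [← CommRingCat.comp_apply (Scheme.Hom.appTop _) (Scheme.Hom.appTop _), ← Scheme.Hom.comp_appTop,
      chart, prod.lift_fst, Scheme.Hom.comp_appTop]
    exact congr($(Scheme.ΓSpecIso_naturality (coef R n)) (φ.appTop u))
  have h2 : chartVal φ n ((prod.snd : X ⨯ Spec (TRing.{u} n) ⟶ _).appTop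
      ((Scheme.ΓSpecIso (TRing.{u} n)).inv (mono n e))) = AddMonoidAlgebra.single e (1 : R) := by
    show (Scheme.ΓSpecIso _).hom ((chart n φ).appTop ((prod.snd : X ⨯ Spec (TRing.{u} n) ⟶ _).appTop _)) = _
    rw [← CommRingCat.comp_apply (Scheme.Hom.appTop _) (Scheme.Hom.appTop _), ← Scheme.Hom.comp_appTop,
      chart, prod.lift_snd, ← coord_mono]
    have := congr($(Scheme.ΓSpecIso_naturality (coord R n)) ((Scheme.ΓSpecIso (TRing.{u} n)).inv (mono n e)))
    refine this.trans ?_
    show coord R n ((Scheme.ΓSpecIso (TRing.{u} n)).hom ((Scheme.ΓSpecIso (TRing.{u} n)).inv (mono n e))) = _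
    rw [← CommRingCat.comp_apply _ (Scheme.ΓSpecIso _).hom, Iso.inv_hom_id]
    rfl
  rw [h1, h2]
  show AddMonoidAlgebra.single 0 (baseVal φ u) * _ = _
  rw [AddMonoidAlgebra.single_mul_single, zero_add, mul_one]

end GrothLib.TorusUnits
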