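import Groth.Agent.Lib.TorusUnits.Basic

/-!
Every unit of a split torus over an integral scheme is a monomial times a unit of the base.
-/

set_option linter.style.header false
set_option linter.style.haveILetI false

universe u

open CategoryTheory Limits AlgebraicGeometry Opposite TopologicalSpace
open AddMonoidAlgebra (single coeff)

namespace GrothLib.TorusUnits

variable {n : ℕ} {X : Scheme.{u}}

/-- Change of coefficients of the chart ring. -/
noncomputable def chartMap {R S : CommRingCat.{u}} (f : R ⟶ S) (n : ℕ) : ChartRing R n ⟶ ChartRing S n :=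
  CommRingCat.ofHom (AddMonoidAlgebra.liftNCRingHom
    ((AddMonoidAlgebra.singleZeroRingHom : S →+* AddMonoidAlgebra S (Fin n → ℤ)).comp f.hom)
    (AddMonoidAlgebra.of S (Fin n → ℤ)) fun _ _ => Commute.all _ _)

theorem chartMap_single {R S : CommRingCat.{u}} (f : R ⟶ S) (e : Fin n → ℤ) (a : R) :
    chartMap f n (single e a) = single e (f a) := by
  show AddMonoidAlgebra.liftNC _ _ (single e a) = _
  erw [AddMonoidAlgebra.liftNC_single]
  show single (0 : Fin n → ℤ) (f a) * single e (1 : S) = _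
  rw [AddMonoidAlgebra.single_mul_single, zero_add, mul_one]

theorem chartVal_comp {R S : CommRingCat.{u}} (f : R ⟶ S) (φ : Spec R ⟶ X)
    (s : Γ(X ⨯ Spec (TRing.{u} n), ⊤)) :
    chartVal (Spec.map f ≫ φ) n s = chartMap f n (chartVal φ n s) := by
  have hc : chart n (Spec.map f ≫ φ) = Spec.map (chartMap f n) ≫ chart n φ := by
    refine prod.hom_ext ?_ ?_
    · simp only [chart, prod.lift_fst, Category.assoc, ← Spec.map_comp_assoc]
      congr 2
      exact CommRingCat.hom_ext (RingHom.ext fun r => (chartMap_single f 0 r).symm)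
    · simp only [chart, prod.lift_snd, Category.assoc, ← Spec.map_comp]
      congr 1
      refine CommRingCat.hom_ext (tring_hom_ext n fun e => ?_)
      show coord S n (mono n e) = chartMap f n (coord R n (mono n e))
      rw [coord_mono, coord_mono, chartMap_single, map_one]
  show (Scheme.ΓSpecIso _).hom ((chart n (Spec.map f ≫ φ)).appTop s) = _
  rw [hc, Scheme.Hom.comp_appTop]
  exact congr($(Scheme.ΓSpecIso_naturality (chartMap f n)) ((chart n φ).appTop s))

theorem baseVal_fromSpec {V : X.Opens} (hV : IsAffineOpen V) (u : Γ(X, ⊤)) :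
    baseVal hV.fromSpec u = InvExt.fres X (le_top : V ≤ ⊤) u := by
  show (Scheme.ΓSpecIso _).hom (hV.fromSpec.app ⊤ u) = _
  rw [congr($(IsAffineOpen.fromSpec_app_of_le hV ⊤ le_top) u)]
  show (Scheme.ΓSpecIso _).hom ((Spec Γ(X, V)).presheaf.map (𝟙 (op (⊤ : (Spec Γ(X, V)).Opens)))
    ((Scheme.ΓSpecIso _).inv (InvExt.fres X (le_top : V ≤ ⊤) u))) = _
  rw [CategoryTheory.Functor.map_id]
  exact congr($((Scheme.ΓSpecIso Γ(X, V)).inv_hom_id) (InvExt.fres X (le_top : V ≤ ⊤) u))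

theorem appTop_zero_iff_res {P Q : Scheme.{u}} (j : Q ⟶ P) [IsOpenImmersion j] (s : Γ(P, ⊤))
    (h : j.appTop s = 0) : InvExt.fres P (le_top : j.opensRange ≤ ⊤) s = 0 := by
  haveI := j.isIso_app j.opensRange le_rfl
  refine (ConcreteCategory.bijective_of_isIso (j.app j.opensRange)).1 ?_
  rw [map_zero]
  have hn := congr($(j.naturality (homOfLE (le_top : j.opensRange ≤ ⊤)).op) s)
  refine hn.trans ?_
  show Q.presheaf.map _ (j.appTop s) = 0
  rw [h, map_zero]

theorem eq_zero_of_forall_chartVal (s : Γ(X ⨯ Spec (TRing.{u} n), ⊤))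
    (h : ∀ (V : X.Opens) (hV : IsAffineOpen V), (V : Set X).Nonempty → chartVal hV.fromSpec n s = 0) :
    s = 0 := by
  let P := X ⨯ Spec (TRing.{u} n)
  let I := {V : X.Opens // IsAffineOpen V ∧ (V : Set X).Nonempty}
  haveI hoi : ∀ i : I, IsOpenImmersion (chart n i.2.1.fromSpec) := fun i =>
    MorphismProperty.of_isPullback (isPullback_chart i.2.1.fromSpec).flip inferInstance
  let W : I → P.Opens := fun i => (chart n i.2.1.fromSpec).opensRange
  refine P.sheaf.eq_of_locally_eq' W ⊤ (fun i => homOfLE le_top) ?_ s 0 fun i => ?_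
  · intro p _
    obtain ⟨_, ⟨V, hV, rfl⟩, hpV, -⟩ := X.isBasis_affineOpens.exists_subset_of_mem_open
      (Set.mem_univ ((prod.fst : P ⟶ X) p)) isOpen_univ
    obtain ⟨z, hz⟩ : (prod.fst : P ⟶ X) p ∈ Set.range hV.fromSpec := by
      rw [hV.range_fromSpec]; exact hpV
    obtain ⟨q, hq, -⟩ := Scheme.exists_preimage_of_isPullback (isPullback_chart hV.fromSpec) p z hz.symm
    exact Opens.mem_iSup.mpr ⟨⟨V, hV, ⟨_, hpV⟩⟩, q, hq⟩
  · show InvExt.fres P le_top s = InvExt.fres P le_top 0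
    rw [show InvExt.fres P (le_top : W i ≤ ⊤) (0 : Γ(P, ⊤)) = 0 from map_zero _]
    refine appTop_zero_iff_res (chart n i.2.1.fromSpec) s ?_
    refine (Scheme.ΓSpecIso (ChartRing Γ(X, i.1) n)).commRingCatIsoToRingEquiv.injective ?_
    rw [map_zero]
    exact h i.1 i.2.1 i.2.2

theorem existsUnique_formula (X : Scheme.{u}) [IsIntegral X] (n : ℕ)
    (v : Γ(X ⨯ Spec (TRing.{u} n), ⊤)) (hv : IsUnit v) :
    ∃! p : (Γ(X, ⊤))ˣ × (Fin n → ℤ), v = formula (p.1 : Γ(X, ⊤)) p.2 := by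
  let I := {V : X.Opens // IsAffineOpen V ∧ (V : Set X).Nonempty}
  haveI hdom : ∀ i : I, IsDomain Γ(X, i.1) := fun i => by
    haveI : Nonempty i.1 := ⟨⟨_, i.2.2.some_mem⟩⟩
    infer_instance
  choose e r hr hval using fun i : I => exists_single_of_isUnit (hv.map (chartVal i.2.1.fromSpec n))
  -- compatibility between nested charts
  have hnest : ∀ i j : I, (hle : i.1 ≤ j.1) → e j = e i ∧ InvExt.fres X hle (r j) = r i := by
    intro i j hle
    have h := chartVal_comp (n := n) (X.presheaf.map (homOfLE hle).op) j.2.1.fromSpec v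
    rw [j.2.1.map_fromSpec i.2.1, hval, hval, chartMap_single, AddMonoidAlgebra.single_inj] at h
    rcases h with ⟨h1, h2⟩ | ⟨h1, -⟩
    · exact ⟨h1.symm, h2.symm⟩
    · exact absurd h1 (hr i).ne_zero
  have hcommon : ∀ i j : I, ∃ w : I, w.1 ≤ i.1 ∧ w.1 ≤ j.1 := by
    intro i j
    obtain ⟨z, hz⟩ := InvExt.exists_common_point i.2.2.some_mem j.2.2.some_mem
    obtain ⟨_, ⟨W, hW, rfl⟩, hzW, hWV⟩ := X.isBasis_affineOpens.exists_subset_of_mem_open hz (i.1 ⊓ j.1).2
    exact ⟨⟨W, hW, z, hzW⟩, fun y hy => (hWV hy).1, fun y hy => (hWV hy).2⟩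
  obtain ⟨x₀⟩ : Nonempty X := inferInstance
  obtain ⟨_, ⟨V₀, hV₀, rfl⟩, hx₀, -⟩ :=
    X.isBasis_affineOpens.exists_subset_of_mem_open (Set.mem_univ x₀) isOpen_univ
  let i₀ : I := ⟨V₀, hV₀, x₀, hx₀⟩
  have he : ∀ i, e i = e i₀ := fun i => by
    obtain ⟨w, h1, h2⟩ := hcommon i i₀
    exact (hnest w i h1).1.trans (hnest w i₀ h2).1.symm
  have hκ : ∀ (i : I) (y : X) (hy : y ∈ i.1), InvExt.toK y hy (r i) = InvExt.toK x₀ hx₀ (r i₀) := by
    intro i y hy
    obtain ⟨w, h1, h2⟩ := hcommon i i₀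
    obtain ⟨z, hz⟩ := w.2.2
    rw [InvExt.toK_congr hy (h1 hz), ← InvExt.toK_fres h1 z hz, (hnest w i h1).2,
      ← (hnest w i₀ h2).2, InvExt.toK_fres, InvExt.toK_congr (h2 hz) hx₀]
  obtain ⟨u, hu, huK⟩ := InvExt.exists_unit_section (V := (⊤ : X.Opens)) (x₀ := x₀) trivial
    (c := InvExt.toK x₀ hx₀ (r i₀)) fun y _ => by
      obtain ⟨_, ⟨V, hV, rfl⟩, hy, -⟩ :=
        X.isBasis_affineOpens.exists_subset_of_mem_open (Set.mem_univ y) isOpen_univ
      exact ⟨V, hy, r ⟨V, hV, y, hy⟩, hr _, hκ ⟨V, hV, y, hy⟩ y hy⟩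
  have hres : ∀ i : I, InvExt.fres X (le_top : i.1 ≤ ⊤) u = r i := fun i => by
    obtain ⟨z, hz⟩ := i.2.2
    refine InvExt.toK_injective z hz ?_
    rw [InvExt.toK_fres, InvExt.toK_congr (show z ∈ (⊤ : X.Opens) from trivial) (show x₀ ∈ (⊤ : X.Opens) from trivial), huK, hκ i z hz]
  refine ⟨(hu.unit, e i₀), ?_, ?_⟩
  · refine sub_eq_zero.mp (eq_zero_of_forall_chartVal _ fun V hV hne => ?_)
    rw [map_sub, chartVal_formula, baseVal_fromSpec hV, hval ⟨V, hV, hne⟩, IsUnit.unit_spec,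
      hres ⟨V, hV, hne⟩, he ⟨V, hV, hne⟩, sub_self]
  · rintro ⟨u', e'⟩ hp
    have h := congrArg (chartVal i₀.2.1.fromSpec n) hp
    rw [chartVal_formula, baseVal_fromSpec, hval i₀, AddMonoidAlgebra.single_inj] at h
    rcases h with ⟨h1, h2⟩ | ⟨h1, -⟩
    · refine Prod.ext (Units.ext ?_) h1.symm
      refine InvExt.toK_injective (V := (⊤ : X.Opens)) x₀ (show x₀ ∈ (⊤ : X.Opens) from trivial) ?_
      rw [IsUnit.unit_spec, huK]
      show InvExt.toK x₀ _ (u' : Γ(X, ⊤)) = InvExt.toK x₀ hx₀ (r i₀)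
      rw [h2, InvExt.toK_fres]
    · exact absurd h1 (hr i₀).ne_zero

end GrothLib.TorusUnits
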